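import Cfsg.Agent.BH.S1.Frame

/-!
# BH, box S1 for `p = 2` (helper33): groups of order four, sets with three elements
-/

set_option autoImplicit false

namespace Cfsg.Agent.BH.S1v

open Cfsg.Agent.BH.S1

theorem all4 {X : Type} (h : Nat.card X = 4) {a b c d : X} (h1 : a ≠ b) (h2 : a ≠ c) (h3 : a ≠ d) (h4 : b ≠ c)
    (h5 : b ≠ d) (h6 : c ≠ d) (x : X) : x = a ∨ x = b ∨ x = c ∨ x = d := by
  classical
  have := Nat.finite_of_card_ne_zero (h.trans_ne (by norm_num))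
  have := Fintype.ofFinite X
  have h7 : ({a, b, c, d} : Finset X) = Finset.univ := Finset.eq_univ_of_card _ (by
    rw [← Nat.card_eq_fintype_card, h, Finset.card_eq_four]
    exact ⟨a, b, c, d, h1, h2, h3, h4, h5, h6, rfl⟩)
  simpa using (h7 ▸ Finset.mem_univ x : x ∈ ({a, b, c, d} : Finset X))

section Four

variable {Q : Type} [Group Q] (h : Nat.card Q = 4)
include h

theorem fix3 {γ : MulAut Q} {u v : Q} (u1 : u ≠ 1) (v1 : v ≠ 1) (huv : u ≠ v) (hu : γ u = u) (hv : γ v = v) :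
    γ = 1 := MulEquiv.ext fun x => by
  by_contra hx
  have h1 : x ≠ 1 := fun e => hx (by rw [e, map_one]; rfl)
  have h2 : x ≠ u := fun e => hx (by rw [e, hu]; rfl)
  have h3 : x ≠ v := fun e => hx (by rw [e, hv]; rfl)
  rcases all4 h u1.symm v1.symm h1.symm huv h2.symm h3.symm (γ x) with e | e | e | e
  · exact h1 (γ.map_eq_one_iff.1 e)
  · exact h2 (γ.injective (e.trans hu.symm))
  · exact h3 (γ.injective (e.trans hv.symm))
  · exact hx e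

theorem fix2 {γ : MulAut Q} {v : Q} (v1 : v ≠ 1) (hv : γ v = v) : γ ^ 2 = 1 := MulEquiv.ext fun x => by
  show γ (γ x) = x
  by_cases hx : γ x = x
  · rw [hx, hx]
  have h1 : x ≠ 1 := fun e => hx (by rw [e, map_one])
  have h2 : x ≠ v := fun e => hx (by rw [e, hv])
  have h3 : γ x ≠ 1 := fun e => h1 (γ.map_eq_one_iff.1 e)
  have h4 : γ x ≠ v := fun e => h2 (γ.injective (e.trans hv.symm))
  rcases all4 h v1.symm h1.symm h3.symm h2.symm h4.symm (Ne.symm hx) (γ (γ x)) with e | e | e | e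
  · exact absurd (γ.map_eq_one_iff.1 e) h3
  · exact absurd (γ.injective (e.trans hv.symm)) h4
  · exact e
  · exact absurd (γ.injective e) hx

theorem exists_inv : ∃ v : Q, v ≠ 1 ∧ v * v = 1 := by
  have := Nat.finite_of_card_ne_zero (h.trans_ne (by norm_num))
  obtain ⟨v, hv⟩ := exists_prime_orderOf_dvd_card' (G := Q) 2 (by rw [h]; norm_num)
  exact ⟨v, fun e => by simp [e] at hv, by rw [← sq, ← hv, pow_orderOf_eq_one]⟩

variable {E : Subgroup (MulAut Q)} (hE : ¬ 2 ∣ Nat.card E)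
include hE

omit h in
theorem sq_one {e : MulAut Q} (he : e ∈ E) (h2 : e ^ 2 = 1) : e = 1 := by
  by_contra h1
  refine hE ?_
  rw [← orderOf_eq_prime h2 h1]
  exact E.orderOf_dvd_natCard he

theorem free {e : MulAut Q} (he : e ∈ E) {v : Q} (v1 : v ≠ 1) (hv : e v = v) : e = 1 := sq_one hE he (fix2 h v1 hv)

theorem trans {e : MulAut Q} (he : e ∈ E) (e1 : e ≠ 1) {v x : Q} (v1 : v ≠ 1) (x1 : x ≠ 1) :
    ∃ k : ℕ, (e ^ k) x = v := by
  have h1 : e x ≠ x := fun k => e1 (free h hE he x1 k)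
  have h2 : e (e x) ≠ x := fun k => e1 (sq_one hE he (free h hE (pow_mem he 2) x1 k))
  have h3 : e x ≠ 1 := fun k => x1 (e.map_eq_one_iff.1 k)
  rcases all4 h x1.symm h3.symm (fun k => h3 (e.map_eq_one_iff.1 k.symm)) h1.symm h2.symm
    (fun k => h1 (e.injective k).symm) v with k | k | k | k
  · exact absurd k v1
  · exact ⟨0, k.symm⟩
  · exact ⟨1, k.symm⟩
  · exact ⟨2, k.symm⟩

theorem cyc : IsCyclic E := by
  obtain ⟨v, v1, -⟩ := exists_inv h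
  by_cases h1 : ∀ e ∈ E, e = 1
  · exact ⟨1, fun x => ⟨0, Subtype.ext (h1 x x.2).symm⟩⟩
  push Not at h1
  obtain ⟨e, he, e1⟩ := h1
  refine ⟨⟨e, he⟩, fun x => ?_⟩
  obtain ⟨k, hk⟩ := trans h hE he e1 (fun k => v1 (x.1.map_eq_one_iff.1 k)) v1
  refine ⟨k, Subtype.ext (eq_of_inv_mul_eq_one (free h hE (mul_mem (inv_mem ?_) x.2) v1 ?_))⟩
  · exact SetLike.coe_mem _
  · show ((e ^ (k : ℤ))⁻¹) (x.1 v) = v
    rw [zpow_natCast, ← hk, MulAut.inv_apply_self]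

end Four

section Three

set_option synthInstance.maxSize 4096 in
theorem s3a : ∀ x y z : Equiv.Perm (Fin 3), x ^ 3 = 1 → y ^ 2 = 1 → (z ^ 3 = 1 → x = 1 → z = 1) →
    (z ^ 2 = 1 → y = 1 → z = 1) → ((z * y) ^ 3 = 1 → x = 1 → z * y = 1) →
    ∃ i : Fin 3, ∃ j : Fin 2, z = x ^ i.1 * y ^ j.1 := by decide +kernel

set_option synthInstance.maxSize 4096 in
theorem s3b : ∀ x y x' y' : Equiv.Perm (Fin 3), x ^ 3 = 1 → y ^ 2 = 1 → x' ^ 3 = 1 → y' ^ 2 = 1 →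
    (x = 1 ↔ x' = 1) → (y = 1 ↔ y' = 1) → ∃ g : Equiv.Perm (Fin 3), x' = g * x * g⁻¹ ∧ y' = g * y * g⁻¹ := by
  decide +kernel

theorem s3c : ∀ x z : Equiv.Perm (Fin 3), x ^ 3 = 1 → ((z ^ 2) ^ 3 = 1 → x = 1 → z ^ 2 = 1) →
    ∃ i : Fin 3, z ^ 2 = x ^ i.1 := by decide +kernel

variable {Γ : Type} [Group Γ]

theorem pick (T : Subgroup Γ) (ρ : Γ →* Equiv.Perm (Fin 3)) (n : ℕ) :
    ∃ a ∈ T, ρ a ^ n = 1 ∧ ∀ t ∈ T, ρ t ^ n = 1 → ρ a = 1 → ρ t = 1 := by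
  by_cases h : ∀ t ∈ T, ρ t ^ n = 1 → ρ t = 1
  · exact ⟨1, one_mem T, by simp, fun t ht h1 _ => h t ht h1⟩
  push Not at h
  obtain ⟨a, h1, h2, h3⟩ := h
  exact ⟨a, h1, h2, fun _ _ _ h4 => absurd h4 h3⟩

/-- two actions on three points with the same kernel are equivalent -/
theorem conj3 (ρ ρ' : Γ →* Equiv.Perm (Fin 3)) (h : ∀ x, ρ x = 1 ↔ ρ' x = 1) :
    ∃ g : Equiv.Perm (Fin 3), ∀ x, ρ' x = g * ρ x * g⁻¹ := by
  obtain ⟨a, -, a1, a2⟩ := pick ⊤ ρ 3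
  obtain ⟨b, -, b1, b2⟩ := pick ⊤ ρ 2
  obtain ⟨g, g1, g2⟩ := s3b (ρ a) (ρ b) (ρ' a) (ρ' b) a1 b1 (by rwa [← map_pow, ← h, map_pow])
    (by rwa [← map_pow, ← h, map_pow]) (h a) (h b)
  refine ⟨g, fun x => ?_⟩
  obtain ⟨i, j, e⟩ := s3a (ρ a) (ρ b) (ρ x) a1 b1 (a2 x trivial) (b2 x trivial)
    (by rw [← map_mul]; exact a2 _ trivial)
  have h1 : ρ' (x * (a ^ i.1 * b ^ j.1)⁻¹) = 1 := by
    rw [← h, map_mul, map_inv, map_mul, map_pow, map_pow, ← e, mul_inv_cancel]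
  rw [map_mul, map_inv, mul_inv_eq_one, map_mul, map_pow, map_pow] at h1
  rw [h1, e, g1, g2, conj_pow, conj_pow, conj_mul]

theorem cyc3 (T : Subgroup Γ) (ρ : Γ →* Equiv.Perm (Fin 3)) :
    ∃ y ∈ T, ∀ t ∈ T, ∃ k j : ℕ, t ^ 2 ^ k * (y ^ j)⁻¹ ∈ ρ.ker := by
  obtain ⟨a, a0, a1, a2⟩ := pick T ρ 3
  refine ⟨a, a0, fun t ht => ?_⟩
  obtain ⟨i, e⟩ := s3c (ρ a) (ρ t) a1 (by rw [← map_pow]; exact a2 _ (pow_mem ht 2))
  exact ⟨1, i, by rw [MonoidHom.mem_ker, map_mul, map_inv, map_pow, map_pow, pow_one, e, mul_inv_cancel]⟩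

variable {Y : Type} [Group Y]

/-- the action on an invariant set with three elements -/
theorem perm3 (φ : Γ →* Y) {A : Set (Y → ℂ)} (h3 : A.ncard = 3) (hA : ∀ f ∈ A, ∀ x, f ∘ MulAut.conj (φ x) ∈ A) :
    ∃ (a : Fin 3 → Y → ℂ) (ρ : Γ →* Equiv.Perm (Fin 3)), Function.Injective a ∧ Set.range a = A ∧
      ∀ x i, a (ρ x i) = a i ∘ MulAut.conj (φ x⁻¹) := by
  have : Finite A := (Set.finite_of_ncard_ne_zero (h3.trans_ne (by norm_num))).to_subtype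
  let e : A ≃ Fin 3 := Finite.equivFinOfCardEq h3
  let _ : MulAction Γ A :=
    { smul := fun x f => ⟨f.1 ∘ MulAut.conj (φ x⁻¹), hA _ f.2 _⟩
      one_smul := fun f => Subtype.ext (by
        show f.1 ∘ MulAut.conj (φ 1⁻¹) = f.1
        rw [inv_one, map_one, cj_one])
      mul_smul := fun x y f => Subtype.ext (by
        show f.1 ∘ MulAut.conj (φ (x * y)⁻¹) = (f.1 ∘ MulAut.conj (φ y⁻¹)) ∘ MulAut.conj (φ x⁻¹)
        rw [mul_inv_rev, map_mul, cj_mul]) }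
  refine ⟨fun i => e.symm i, e.permCongrHom.toMonoidHom.comp (MulAction.toPermHom Γ A),
    Subtype.val_injective.comp e.symm.injective, ?_, fun x i => ?_⟩
  · exact (e.symm.surjective.range_comp Subtype.val).trans Subtype.range_coe
  · exact congrArg Subtype.val (e.symm_apply_apply (x • e.symm i))

theorem ker3 {φ : Γ →* Y} {a : Fin 3 → Y → ℂ} {ρ : Γ →* Equiv.Perm (Fin 3)} (ha : Function.Injective a)
    (h : ∀ x i, a (ρ x i) = a i ∘ MulAut.conj (φ x⁻¹)) (x : Γ) :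
    ρ x = 1 ↔ ∀ f ∈ Set.range a, f ∘ MulAut.conj (φ x) = f := by
  rw [← inv_inj, ← map_inv, inv_one, Set.forall_mem_range, Equiv.ext_iff]
  refine forall_congr' fun i => ?_
  rw [← ha.eq_iff, h, inv_inv]
  rfl

/-- sets with four elements and a fixed point -/
theorem split4 {H : Subgroup Y} {A : Set (Y → ℂ)} (h4 : A.ncard = 4) {a : Y → ℂ} (ha : a ∈ A) (hA : Inv H A)
    (h : ∀ x ∈ H, a ∘ MulAut.conj x = a) : (A \ {a}).ncard = 3 ∧ Inv H {a} ∧ Inv H (A \ {a}) ∧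
      ∀ x ∈ H, (∀ f ∈ A \ {a}, f ∘ MulAut.conj x = f) ↔ ∀ f ∈ A, f ∘ MulAut.conj x = f := by
  have h1 : Inv H {a} := by
    rintro _ rfl x hx
    exact h x hx
  refine ⟨by rw [Set.ncard_sdiff_singleton_of_mem ha, h4], h1, hA.diff h1, fun x hx =>
    ⟨fun h2 f hf => ?_, fun h2 f hf => h2 f hf.1⟩⟩
  by_cases h3 : f = a
  · rw [h3, h x hx]
  · exact h2 f ⟨hf, h3⟩

theorem eqv4 {H : Subgroup Y} {A B : Set (Y → ℂ)} (hA : A.ncard = 4) (hB : B.ncard = 4) (iA : Inv H A) (iB : Inv H B)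
    {a b : Y → ℂ} (ha : a ∈ A) (hb : b ∈ B) (fa : ∀ x ∈ H, a ∘ MulAut.conj x = a)
    (fb : ∀ x ∈ H, b ∘ MulAut.conj x = b)
    (h : ∀ x ∈ H, (∀ f ∈ A, f ∘ MulAut.conj x = f) ↔ ∀ f ∈ B, f ∘ MulAut.conj x = f) : ∃ σ, Eqv H σ A B := by
  obtain ⟨a1, a2, a3, a4⟩ := split4 hA ha iA fa
  obtain ⟨b1, b2, -, b4⟩ := split4 hB hb iB fb
  obtain ⟨u, ρ, u1, u2, u3⟩ := perm3 H.subtype a1 fun f hf x => a3 f hf x x.2
  obtain ⟨v, ρ', v1, v2, v3⟩ := perm3 H.subtype b1 fun f hf x => (iB.diff b2) f hf x x.2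
  obtain ⟨g, hg⟩ := conj3 ρ ρ' fun x => by
    rw [ker3 u1 u3, ker3 v1 v3, u2, v2]
    exact (a4 x x.2).trans ((h x x.2).trans (b4 x x.2).symm)
  have e : ∀ i, Function.extend u (v ∘ g) id (u i) = v (g i) := fun i => u1.extend_apply _ _ i
  have h1 : Eqv H (Function.extend u (v ∘ g) id) (A \ {a}) (B \ {b}) := by
    rw [← u2, ← v2]
    refine ⟨⟨?_, ?_, ?_⟩, ?_⟩
    · rintro _ ⟨i, rfl⟩
      exact ⟨_, (e i).symm⟩
    · rintro _ ⟨i, rfl⟩ _ ⟨j, rfl⟩ k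
      rw [e, e] at k
      rw [g.injective (v1 k)]
    · rintro _ ⟨i, rfl⟩
      exact ⟨_, ⟨g.symm i, rfl⟩, by rw [e, g.apply_symm_apply]⟩
    · rintro _ ⟨i, rfl⟩ x hx
      have k1 := u3 (⟨x, hx⟩ : H)⁻¹ i
      have k2 := v3 (⟨x, hx⟩ : H)⁻¹ (g i)
      rw [inv_inv] at k1 k2
      rw [e]
      refine (congrArg _ k1.symm).trans ((e _).trans (Eq.trans ?_ k2))
      rw [hg]
      simp
  have h2 : Eqv H (fun _ => b) {a} {b} := ⟨Set.bijOn_singleton.2 rfl, fun _ _ x hx => (fb x hx).symm⟩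
  obtain ⟨σ, h3⟩ := eqv_union h1 h2 Set.disjoint_sdiff_left Set.disjoint_sdiff_left a3 a2
  rw [Set.sdiff_union_of_subset (Set.singleton_subset_iff.2 ha), Set.sdiff_union_of_subset (Set.singleton_subset_iff.2 hb)]
    at h3
  exact ⟨σ, h3⟩

end Three

end Cfsg.Agent.BH.S1v
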