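import Cfsg.Agent.BH.S1v.A
import Cfsg.Agent.BH.V4.Star
import Cfsg.Agent.BH.Kap.Main
import Cfsg.Agent.TO.InvFIX

/-!
# BH, box S1 for `p = 2` (helper33): blocks with a defect group of order four
-/

set_option autoImplicit false

namespace Cfsg.Agent.BH.S1v

open Cfsg Cfsg.Agent.TO Cfsg.Agent.TO.Cov Cfsg.Agent.Blocks.Basic Cfsg.Agent.Characters Cfsg.Agent.BH.V4
open Cfsg.Agent.H666.Clif (tl tl_apply exists_tl)

section

variable {K : Type} [Group K] [Finite K] {M : Ideal AlgInt} {b : Set (IrrCharacter K)} {Q : Subgroup K} {θ : K → ℂ}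

omit [Finite K] in
theorem ker_ri : (ri Q θ).ker = (Ce Q).subgroupOf (In Q θ) := by
  ext t
  rw [MonoidHom.mem_ker, Subgroup.mem_subgroupOf, mem_Ce]
  refine ⟨fun h d hd => (mul_inv_eq_iff_eq_mul.1 (congrArg (fun f : MulAut Q => ((f ⟨d, hd⟩ : Q) : K)) h)).symm,
    fun h => MulEquiv.ext fun d => Subtype.ext (mul_inv_eq_iff_eq_mul.2 (h d d.2).symm)⟩

omit [Finite K] in
theorem irr_C (h : Can 2 M b Q θ) : IsIrrCharacter ((Ce Q).subgroupOf (In Q θ)) fun x => θ ((x : In Q θ) : K) :=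
  Core.isIrr_comp (Subgroup.subgroupOfEquivOfLe (ce_le_In h)).toMonoidHom
    (Subgroup.subgroupOfEquivOfLe (ce_le_In h)).surjective h.irr

variable (h : Can 2 M b Q θ) (h4 : Nat.card Q = 4)
include h h4

/-- four members -/
theorem card4 : (Fn b).ncard = 4 := by
  have : Finite (Fn b) := (Q8.fn_finite b).to_subtype
  have := Fintype.ofFinite (Fn b)
  obtain ⟨v, v1, v2⟩ := exists_inv h4
  obtain ⟨z, z0, s1, s2, -⟩ := data h v.2 (fun e => v1 (Subtype.ext e)) (congrArg Subtype.val v2) fun t ht e =>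
    (ker_ri (θ := θ)).le (show (⟨t, ht⟩ : In Q θ) ∈ _ from free h4 (ndvd_ri h) ⟨_, rfl⟩ v1 (Subtype.ext e))
  rw [h4] at s1
  have h1 : ∀ x, 1 ≤ z x ^ 2 := fun x => Int.add_one_le_of_lt (pow_two_pos_of_ne_zero (z0 x))
  have h2 : ∀ x, z x ^ 2 = 1 := fun x => by
    classical
    by_contra h3
    have h5 : 4 ≤ z x ^ 2 := by
      have h6 := h1 x
      by_contra h7
      have h8 : -2 < z x := by nlinarith
      have h9 : z x < 2 := by nlinarith
      have h10 := z0 x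
      generalize z x = y at *
      interval_cases y <;> simp_all
    have h6 : ∀ y, y = x := fun y => by
      by_contra h7
      have h8 := Finset.sum_le_sum_of_subset_of_nonneg (f := fun x => z x ^ 2) (Finset.subset_univ {y, x})
        fun i _ _ => sq_nonneg _
      rw [Finset.sum_pair h7, s1] at h8
      have := h1 y
      push_cast at h8
      omega
    rw [Finset.sum_eq_single x (fun y _ e => absurd (h6 y) e) fun e => absurd (Finset.mem_univ x) e] at s2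
    exact mul_ne_zero (irr_one_ne_zero (Q8.fn_irr x.2)) (Int.cast_ne_zero.2 (z0 x)) s2
  simp only [h2, Finset.sum_const, Finset.card_univ, nsmul_eq_mul, mul_one] at s1
  rw [← Nat.card_coe_set_eq, Nat.card_eq_fintype_card]
  exact_mod_cast s1

/-- a member which is fixed by the stabiliser of the block -/
theorem exists_fixed : ∃ χ ∈ Fn b, ∀ α ∈ Stab b, χ ∘ α = χ := by
  obtain ⟨χ, h1, h2⟩ := boxFIX K 2 M b h.hM h.hb
  have h3 := Set.ncard_sdiff_add_ncard_of_subset (Q8.orb_sub h1) (Q8.fn_finite b)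
  rw [card4 h h4] at h3
  obtain h5 | h5 : (Orb b χ).ncard = 1 ∨ (Fn b \ Orb b χ).ncard = 1 := by omega
  · obtain ⟨f, hf⟩ := Set.ncard_eq_one.1 h5
    refine ⟨χ, h1, fun α hα => ?_⟩
    have h6 := Q8.self_mem_orb b χ
    have h7 := Q8.orb_comp h6 hα
    rw [hf] at h6 h7
    exact h7.trans h6.symm
  · obtain ⟨f, hf⟩ := Set.ncard_eq_one.1 h5
    have h6 : f ∈ Fn b \ Orb b χ := hf ▸ rfl
    refine ⟨f, h6.1, fun α hα => hf.le ⟨Q8.comp_mem hα h6.1, fun h7 => h6.2 ?_⟩⟩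
    have h8 := Q8.orb_comp h7 (inv_mem hα)
    rwa [← Q8.comp_mul, mul_inv_cancel] at h8

theorem cyc_In : haveI := Cn.normal_Ce (D := Q) (θ := θ); IsCyclic (In Q θ ⧸ (Ce Q).subgroupOf (In Q θ)) := by
  have := Cn.normal_Ce (D := Q) (θ := θ)
  have := cyc h4 (ndvd_ri h)
  exact isCyclic_of_surjective _
    ((QuotientGroup.quotientKerEquivRange (ri Q θ)).symm.trans (QuotientGroup.quotientMulEquivOfEq ker_ri)).surjective

theorem exists_ext : ∃ e, Ext Q θ (In Q θ) e := by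
  have := Cn.normal_Ce (D := Q) (θ := θ)
  obtain ⟨χ, h1, h2⟩ := S0886.result _ (cyc_In h h4) _ (irr_C h) fun g n => (mem_In.1 g.2).2 _
  exact ⟨extendByZero _ χ, ce_le_In h, by rwa [ext_coe], fun c hc =>
    (Core.extendByZero_of_mem _ _ (ce_le_In h hc)).trans (h2 ⟨⟨c, ce_le_In h hc⟩, hc⟩)⟩

variable {e e' : K → ℂ} {α : MulAut K}

theorem ext_tl (hα : α ∈ LA Q θ) (hc : ∀ u ∈ Q, α u = u) (h1 : Ext Q θ (In Q θ) e) (h2 : Ext Q θ (In Q θ) e') :
    ∃ μ : K → ℂ, ∃ n : ℕ, ¬ 2 ∣ n ∧ ∀ x ∈ In Q θ, e' x = μ x * e x ∧ μ (α x) = μ x ∧ μ x ^ n = 1 := by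
  have := Cn.normal_Ce (D := Q) (θ := θ)
  obtain ⟨l, h3, h5⟩ := exists_tl _ (cyc_In h h4) (χ := ⟨_, h1.irr⟩) (ψ := ⟨_, h2.irr⟩) (ε := ⟨_, irr_C h⟩)
    (ov_of_res fun n => h1.ext _ n.2) (ov_of_res fun n => h2.ext _ n.2)
  refine ⟨extendByZero _ fun x => l x, _, h.idx, fun x hx => ?_⟩
  rw [Core.extendByZero_of_mem _ _ hx, Core.extendByZero_of_mem _ _ (Cov.LA_In hα hx)]
  refine ⟨congrFun (congrArg Subtype.val h5) ⟨x, hx⟩, congrArg Units.val (eq_of_mul_inv_eq_one ?_), ?_⟩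
  · rw [← map_inv, ← map_mul]
    refine h3 _ (mem_Ce.2 fun d hd => ?_)
    have h6 := hc (x⁻¹ * d * x) (((mem_In.1 hx).1 _).1 (by simpa [mul_assoc] using hd))
    rw [map_mul, map_mul, map_inv, hc d hd] at h6
    show d * (α x * x⁻¹) = α x * x⁻¹ * d
    rw [show d * (α x * x⁻¹) = α x * ((α x)⁻¹ * d * α x) * x⁻¹ by group, h6]
    group
  · rw [← Units.val_pow_eq_pow_val, ← map_pow, Subgroup.relIndex, h3 _ (Subgroup.pow_index_mem _ _), Units.val_one]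

theorem ext_fix (hα : α ∈ LA Q θ) (hc : ∀ u ∈ Q, α u = u) (h1 : Ext Q θ (In Q θ) e) (h2 : Ext Q θ (In Q θ) e')
    (h3 : ∀ x ∈ In Q θ, e (α x) = e x) : ∀ x ∈ In Q θ, e' (α x) = e' x := fun x hx => by
  obtain ⟨μ, n, -, h5⟩ := ext_tl h h4 hα hc h1 h2
  rw [(h5 _ (Cov.LA_In hα hx)).1, (h5 x hx).1, (h5 x hx).2.1, h3 x hx]

theorem ext_pow (hα : α ∈ LA Q θ) (hc : ∀ u ∈ Q, α u = u) (h1 : Ext Q θ (In Q θ) e) {k : ℕ}
    (h3 : ∀ x ∈ In Q θ, e ((α ^ 2 ^ k) x) = e x) : ∀ x ∈ In Q θ, e (α x) = e x := fun x hx => by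
  obtain ⟨μ, n, h5, h6⟩ := ext_tl h h4 hα hc h1 (e' := fun x => e (α x)) ⟨h1.le, Core.isIrr_comp
    ((α.toMonoidHom.comp (In Q θ).subtype).codRestrict _ fun x => Cov.LA_In hα x.2)
    (fun y => ⟨⟨_, Cov.LA_In (inv_mem hα) y.2⟩, Subtype.ext (α.apply_symm_apply _)⟩) h1.irr,
    fun c hc => (h1.ext _ ((Cn.la_Ce hα c).2 hc)).trans (hα.2 c)⟩
  have h7 : ∀ m : ℕ, ∀ y ∈ In Q θ, e ((α ^ m) y) = μ y ^ m * e y := fun m => by
    induction m with
    | zero => simp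
    | succ m ih =>
      intro y hy
      rw [pow_succ, MulAut.mul_apply, ih _ (Cov.LA_In hα hy), (h6 y hy).2.1, (h6 y hy).1, pow_succ, mul_assoc]
  rw [(h6 x hx).1]
  by_cases h8 : e x = 0
  · rw [h8, mul_zero]
  have h9 : μ x ^ 2 ^ k = 1 := mul_right_cancel₀ h8 ((h7 _ x hx).symm.trans ((h3 x hx).trans (one_mul _).symm))
  rw [(pow_eq_one_iff_of_coprime (Nat.Coprime.pow_left k (Nat.prime_two.coprime_iff_not_dvd.2 h5))).1
    ⟨h9, (h6 x hx).2.2⟩, one_mul]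

/-- an automorphism which fixes all members acts on the defect group like an element of the inertia group -/
theorem str1 (hz : Q ⊓ Ce (In Q θ) = ⊥) (hα : α ∈ LA Q θ) (hf : ∀ f ∈ Fn b, f ∘ α = f) :
    ∃ t ∈ In Q θ, ∀ u ∈ Q, α u = t * u * t⁻¹ := by
  obtain ⟨v, v1, -⟩ := exists_inv h4
  have hE := ndvd_ri h
  obtain ⟨s, hs⟩ : ∃ s : In Q θ, ri Q θ s ≠ 1 := by
    by_contra! h1
    refine v1 (Subtype.ext (Subgroup.mem_bot.1 (hz ▸ ⟨v.2, mem_Ce.2 fun t ht => ?_⟩)))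
    exact mul_inv_eq_iff_eq_mul.1 (congrArg (fun f : MulAut Q => ((f v : Q) : K)) (h1 ⟨t, ht⟩))
  obtain ⟨k, hk⟩ := trans h4 hE ⟨s, rfl⟩ hs v1 fun e => v1 ((rs Q θ ⟨α, hα⟩).map_eq_one_iff.1 e)
  rw [← map_pow] at hk
  generalize s ^ k = t at hk
  have h1 : MulAut.conj (t : K) * α ∈ LA Q θ := mul_mem t.2 hα
  suffices h2 : rs Q θ ⟨_, h1⟩ = 1 from ⟨_, inv_mem t.2, fun u hu => by
    have h3 : (t : K) * α u * (t : K)⁻¹ = u := congrArg (fun f : MulAut Q => ((f ⟨u, hu⟩ : Q) : K)) h2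
    conv_rhs => rw [← h3]
    group⟩
  have h2 : ∀ f ∈ Fn b, f ∘ (MulAut.conj (t : K) * α : MulAut K) = f := fun f h2 => by
    rw [Q8.comp_mul, Q8.comp_conj (Q8.fn_irr h2), hf f h2]
  have h3 : rs Q θ ⟨_, h1⟩ ^ 2 = 1 := fix2 h4 v1 hk
  generalize MulAut.conj (t : K) * α = β at h1 h2 h3
  obtain ⟨j, m, h5, h6⟩ := Nat.exists_eq_pow_mul_and_not_dvd (orderOf_pos β).ne' 2 (by norm_num)
  have h7 : rs Q θ ⟨_, pow_mem h1 m⟩ = rs Q θ ⟨_, h1⟩ := by
    rw [show (⟨_, pow_mem h1 m⟩ : LA Q θ) = ⟨β, h1⟩ ^ m from rfl, map_pow, pow_eq_pow_mod m h3,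
      Nat.two_dvd_ne_zero.1 h5, pow_one]
  have h8 : ∀ f ∈ Fn b, f ∘ (β ^ m : MulAut K) = f := fun f h8 => by
    clear h5 h6 h7
    induction m with
    | zero => rfl
    | succ m ih => rw [pow_succ, Q8.comp_mul, ih, h2 f h8]
  rw [← h7]
  by_contra h9
  have h10 := boxCNT K b Q θ h _ (pow_mem h1 m) (by
    obtain ⟨i, -, h10⟩ := (Nat.dvd_prime_pow Nat.prime_two).1 (orderOf_dvd_of_pow_eq_one (x := β ^ m) (n := 2 ^ j)
      (by rw [← pow_mul, mul_comm, ← h6, pow_orderOf_eq_one]))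
    exact ⟨i, h10⟩) fun s hs hc u hu e => by
      by_contra h10
      have h11 : (⟨u, hu⟩ : Q) ≠ 1 := fun e => h10 (by rw [show u = 1 from congrArg Subtype.val e]; simp)
      refine h9 (fix3 h4 h11 (fun e => h11 ((ri Q θ ⟨s, hs⟩).map_eq_one_iff.1 e))
        (fun e => h10 (congrArg Subtype.val e).symm) (Subtype.ext e) (Subtype.ext ?_))
      exact (hc u hu).symm.trans (by rw [e]; rfl)
  rw [Set.sep_eq_self_iff_mem_true.2 h8, card4 h h4] at h10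
  have h11 := Set.eq_of_subset_of_ncard_le (s := {u : K | u ∈ Q ∧ (β ^ m) u = u}) (t := Q) (fun _ h => h.1)
    ((h4 ▸ h10 :) : Nat.card Q ≤ _)
  exact h9 (MulEquiv.ext fun u => Subtype.ext (h11.ge u.2).2)

end

/-- **an invariant extension**, if the members of the block are invariant in a cyclic extension of odd index -/
theorem cover_fix {W : Type} [Group W] [Finite W] {M : Ideal AlgInt} {N : Subgroup W} [hN : N.Normal]
    {b : Set (IrrCharacter N)} {D : Subgroup W} {θ : W → ℂ} (R : Root 2 M N b D θ) (h4 : Nat.card D = 4)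
    (hc : IsCyclic (W ⧸ N)) (hi : ¬ 2 ∣ N.index) (hNC : N ⊔ Ce D = ⊤) (hC : Ce D ≤ In D θ)
    (hf : ∀ g : W, ∀ f ∈ Fn b, f ∘ (MulAut.conjNormal g : MulAut N) = f) :
    ∃ ξ : W → ℂ, IsIrrCharacter (N ⊓ In D θ : Subgroup W) (fun x => ξ x) ∧ (∀ c ∈ Ce D, c ∈ N → ξ c = θ c) ∧
      ∀ w ∈ Ce D, ∀ i ∈ N ⊓ In D θ, ξ (w * i * w⁻¹) = ξ i := by
  have := R.can.prime
  have := Fintype.ofFinite N
  have := Fintype.ofFinite W
  obtain ⟨χ, hχ⟩ := H666.Clif.exists_ov _ (thL R.le R.can)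
  obtain ⟨B, h5, h6⟩ := exists_can hi R.le R.zero R.can hχ
  have h7 := res_of_inv _ (cyc_sub N (Ce D) hc) hχ fun g n => (mem_In.1 (hC g.2)).2 _
  have he : ∀ c : Ce D, extendByZero (Ce D) χ c = χ.1 c := fun c => Core.extendByZero_of_mem _ _ c.2
  generalize extendByZero (Ce D) χ = θ' at h5 he
  have h8 : ∀ n ∈ N, θ' n = θ n := fun n hn => by
    by_cases hn' : n ∈ Ce D
    · exact (he ⟨n, hn'⟩).trans (h7 ⟨⟨n, hn'⟩, hn⟩)
    · rw [h5.zero n hn', zero_C R.le R.zero R.can hn']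
  have k1 : ∀ ψ ∈ b, ∃ χ' ∈ B, (fun n : N => χ'.1 n) = ψ.1 := fun ψ hψ => by
    obtain ⟨χ', k1, k2⟩ := S4432.result 2 M h5.hM N B h5.hb b R.can.hb h6 ψ hψ
    exact ⟨χ', k1, funext (res_of_inv N hc ((H666.Clif.ov_iff _ _ _).2 k2) fun g => congrFun (hf g _ (mem_Fn.2 hψ)))⟩
  have k2 : Set.InjOn (fun (f : W → ℂ) (n : N) => f n) (Fn B) := by
    refine Set.injOn_of_ncard_image_eq (le_antisymm (Set.ncard_image_le (Q8.fn_finite B)) ?_) (Q8.fn_finite B)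
    rw [card4 h5 h4, ← card4 R.can ((Nat.card_congr (Subgroup.subgroupOfEquivOfLe R.le).toEquiv).trans h4)]
    refine Set.ncard_le_ncard ?_ ((Q8.fn_finite B).image _)
    rintro _ ⟨ψ, hψ, rfl⟩
    obtain ⟨χ', k2, k3⟩ := k1 ψ hψ
    exact ⟨_, mem_Fn.2 k2, k3⟩
  have key : ∀ l : W →* ℂˣ, N ≤ l.ker → tl l '' B = B → l.ker = ⊤ := fun l hl e => by
    obtain ⟨ψ, hψ⟩ := isPBlock_nonempty R.can.hb
    obtain ⟨χ', k3, k4⟩ := k1 ψ hψ
    have k5 := k2 (mem_Fn.2 (e.le ⟨χ', k3, rfl⟩)) (mem_Fn.2 k3) (funext fun n => by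
      show (l n : ℂ) * _ = _
      rw [show l n = 1 from hl n.2, Units.val_one, one_mul])
    refine top_of_vanish _ χ'.2 (irr_of_comp (Subgroup.inclusion hl)
      (Clifford.isCharacter_restrict _ (irr_isCharacter χ'.2)) (k4 ▸ ψ.2 :)) fun g hg => ?_
    by_contra k6
    exact hg (Units.ext (mul_right_cancel₀ k6 ((congrFun k5 g).trans (one_mul _).symm)))
  have h9 : In D θ ≤ In D θ' := fun t ht => by
    have h10 := h5.map (MulAut.conj t⁻¹)
    rw [Cn.mem_Stab_iff.1 (Cov.conj_mem_Stab B _), Cn.map_eq_of_iff (α := MulAut.conj t⁻¹) (inv_mem ht).1] at h10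
    have e1 : ∀ y, (MulAut.conj t⁻¹).symm y = t * y * t⁻¹ := fun y => by simp
    simp only [e1] at h10
    obtain ⟨l', k3, k4⟩ := exists_tl _ (cyc_sub N (Ce D) hc) hχ (ψ := h10.chr) (ov_of_res fun n =>
      (h8 _ (hN.conj_mem _ n.2 t)).trans (ht.2 _))
    have k5 : Function.Surjective ((QuotientGroup.mk' N).comp (Ce D).subtype) := fun y => by
      obtain ⟨x, rfl⟩ := QuotientGroup.mk_surjective y
      obtain ⟨n, hn, c, hc, rfl⟩ := Subgroup.mem_sup_of_normal_left.1 (hNC ▸ Subgroup.mem_top x : x ∈ N ⊔ Ce D)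
      exact ⟨⟨c, hc⟩, by rw [QuotientGroup.mk_mul, (QuotientGroup.eq_one_iff n).2 hn, one_mul]; rfl⟩
    obtain ⟨l, k6, k7⟩ : ∃ l : W →* ℂˣ, N ≤ l.ker ∧ ∀ c : Ce D, l c = l' c :=
      ⟨(MonoidHom.liftOfSurjective _ k5 ⟨l', fun x hx => k3 x ((QuotientGroup.eq_one_iff (x : W)).1 hx)⟩).comp
        (QuotientGroup.mk' N), fun n hn => by
          rw [MonoidHom.mem_ker, MonoidHom.comp_apply, QuotientGroup.mk'_apply, (QuotientGroup.eq_one_iff n).2 hn,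
            map_one], fun c => MonoidHom.liftOfRightInverse_comp_apply _ _ (Function.rightInverse_surjInv k5) _ c⟩
    have k8 : (fun y => θ' (t * y * t⁻¹)) = fun g => θ' g * l g := funext fun g => by
      by_cases hg : g ∈ Ce D
      · rw [k7 ⟨g, hg⟩, he ⟨g, hg⟩, mul_comm]
        exact congrFun (congrArg Subtype.val k4) ⟨g, hg⟩
      · rw [h10.zero g hg, h5.zero g hg, zero_mul]
    rw [k8] at h10
    have k9 := key l k6 (can_unique (can_tl h5 l (R.le.trans k6)) h10)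
    refine ⟨ht.1, fun g => (congrFun k8 g).trans ?_⟩
    rw [show l g = 1 from MonoidHom.mem_ker.1 (k9 ▸ Subgroup.mem_top g), Units.val_one, mul_one]
  obtain ⟨ξ, hξ⟩ := exists_ext h5 h4
  refine ⟨ξ, irr_of_comp (((Ce D).subtype.comp (N.subgroupOf (Ce D)).subtype).codRestrict (N ⊓ In D θ)
    fun x => ⟨x.2, hC x.1.2⟩) (Core.isCharacter_comp (Subgroup.inclusion (inf_le_right.trans h9))
      (irr_isCharacter hξ.irr)) ?_, fun c h1 h2 => (hξ.ext c h1).trans (h8 c h2),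
    fun w hw i hi => irr_conj hξ.irr ⟨i, h9 hi.2⟩ ⟨w, ce_le_In h5 hw⟩⟩
  exact (funext fun x : N.subgroupOf (Ce D) => ((hξ.ext _ x.1.2).trans (h8 _ x.2)).symm) ▸ irr_L R.le R.can

end Cfsg.Agent.BH.S1v
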