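import Cfsg.Agent.BH.S1v.B

/-!
# BH, box S1 for `p = 2` (helper33)

The inertia group acts on the four members of `b` and on the four members of the local block with the same kernel.
-/

set_option autoImplicit false

namespace Cfsg.Agent.BH

namespace S1v

open Cfsg Cfsg.Agent.TO Cfsg.Agent.TO.Cov Cfsg.Agent.Blocks.Basic Cfsg.Agent.Characters Cfsg.Agent.BH.S1
open Cfsg.Agent.BH.Kap

variable {M : Ideal AlgInt} {Y : Type} [Group Y] [Finite Y] {S : Subgroup Y} [hS : S.Normal]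
  {b : Set (IrrCharacter S)} {Q : Subgroup Y} {θ e : Y → ℂ}

/-- `e` is an extension of `θ` to the inertia group in `S` -/
structure Ex0 (S Q : Subgroup Y) (θ e : Y → ℂ) : Prop where
  irr : IsIrrCharacter (S ⊓ In Q θ : Subgroup Y) fun x => e x
  ext : ∀ c ∈ Ce Q, c ∈ S → e c = θ c

omit [Finite Y] hS in
theorem card_sub {T : Subgroup Y} (h : Q ≤ T) (h4 : Nat.card Q = 4) : Nat.card (Q.subgroupOf T) = 4 :=
  (Nat.card_congr (Subgroup.subgroupOfEquivOfLe h).toEquiv).trans h4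

variable (R : Root 2 M S b Q θ)
include R

omit [Finite Y] in
/-- the inertia group in `S` -/
def inS : In (Q.subgroupOf S) (fun n : S => θ n) ≃* (S ⊓ In Q θ : Subgroup Y) where
  toFun x := ⟨x.1, x.1.2, (Reg.mem_In_sub R.le R.zero _).2 x.2⟩
  invFun y := ⟨⟨y, y.2.1⟩, (Reg.mem_In_sub R.le R.zero _).1 y.2.2⟩
  left_inv _ := rfl
  right_inv _ := rfl
  map_mul' _ _ := rfl

omit [Finite Y] in
theorem Ex0.extS (E : Ex0 S Q θ e) :
    Ext (Q.subgroupOf S) (fun n : S => θ n) (In (Q.subgroupOf S) fun n : S => θ n) fun n : S => e n :=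
  ⟨ce_le_In R.can, Core.isIrr_comp (inS R).toMonoidHom (inS R).surjective E.irr,
    fun c hc => E.ext c ((mem_Ce_sub R.le).1 hc) c.2⟩

theorem Ex0.extI (E : Ex0 S Q θ e) : Ext (Q.subgroupOf (S ⊓ In Q θ)) (fun n : (S ⊓ In Q θ : Subgroup Y) => θ n)
    (In (Q.subgroupOf (S ⊓ In Q θ)) fun n : (S ⊓ In Q θ : Subgroup Y) => θ n) fun n => e n :=
  ⟨ce_le_In (locB_can R), Core.isIrr_comp (Subgroup.subtype _) (fun y => ⟨⟨y, In_loc.ge trivial⟩, rfl⟩) E.irr,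
    fun c hc => E.ext c ((mem_Ce_sub (le_I R)).1 hc) c.2.1⟩

theorem exists_ex0 (h4 : Nat.card Q = 4) : ∃ e ∈ XL M S Q θ, Ex0 S Q θ e := by
  obtain ⟨e, he⟩ := exists_ext R.can (card_sub R.le h4)
  have h1 := Core.isIrr_comp (inS R).symm.toMonoidHom (inS R).symm.surjective he.irr
  have h2 : ∀ c : (Ce Q).subgroupOf (S ⊓ In Q θ), e ((inS R).symm c) = θ ((c : (S ⊓ In Q θ : Subgroup Y)) : Y) :=
    fun c => he.ext _ ((mem_Ce_sub R.le).2 c.2)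
  have := Fintype.ofFinite ((Ce Q).subgroupOf (S ⊓ In Q θ))
  have := R.can.prime
  have h3 : IsIrrCharacter ((Ce Q).subgroupOf (S ⊓ In Q θ)) fun c => θ ((c : (S ⊓ In Q θ : Subgroup Y)) : Y) :=
    Core.isIrr_comp (eC R).symm.toMonoidHom (eC R).symm.surjective R.can.irr
  refine ⟨_, ext_mem ⟨⟨_, h1⟩, ⟨⟨_, h3⟩, mem_blockOf_self (⟨_, h3⟩ : IrrCharacter _), (TID.Red.ov_iff _ _ _).2 ?_⟩, rfl⟩,
    by rwa [ext_coe], fun c hc hc' => ?_⟩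
  · exact ((congrArg (classInner · _) (funext h2)).trans (Core.classInner_irr_self h3)).trans_ne one_ne_zero
  · have h5 := Reg.ce_le_In R ⟨hc', hc⟩
    exact (Core.extendByZero_of_mem _ _ (show c ∈ S ⊓ In Q θ from ⟨hc', h5⟩)).trans (h2 ⟨⟨c, hc', h5⟩, hc⟩)

/-- an element which centralizes `Q` and fixes the members of `b` fixes the extensions of `θ` -/
theorem str2 (h4 : Nat.card Q = 4) (E : Ex0 S Q θ e) {c : Y} (h1 : c ∈ In Q θ) (h2 : c ∈ Ce Q)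
    (hf : ∀ f ∈ Fn b, f ∘ (MulAut.conjNormal c : MulAut S) = f) : ∀ i ∈ S ⊓ In Q θ, e (c * i * c⁻¹) = e i := by
  have k1 : ∀ x ∈ Ce Q, ∀ u ∈ Q.subgroupOf S, (MulAut.conjNormal x : MulAut S) u = u := fun x hx u hu =>
    Subtype.ext (mul_inv_eq_iff_eq_mul.2 (mem_Ce.1 hx _ hu).symm)
  obtain ⟨k, hk⟩ := exists_reg_pow (p := 2) c
  have k2 : ∀ (m : ℕ), ∀ f ∈ Fn b, f ∘ (MulAut.conjNormal (c ^ m) : MulAut S) = f := fun m f h3 => by
    induction m with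
    | zero => rw [pow_zero, map_one]; rfl
    | succ m ih => rw [pow_succ, map_mul, Q8.comp_mul, ih, hf f h3]
  suffices h3 : ∀ x ∈ In (Q.subgroupOf S) (fun n : S => θ n),
      e (MulAut.conjNormal (c ^ 2 ^ k) x : S) = e x from fun i hi =>
    ext_pow R.can (card_sub R.le h4) ((Reg.mem_In_iff R.le R.zero c).1 h1) (k1 c h2) (E.extS R) (k := k)
      (by rwa [← map_pow]) ⟨i, hi.1⟩ ((inS R).symm ⟨i, hi⟩).2
  have h5 := pow_mem h1 (2 ^ k)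
  have h6 := pow_mem h2 (2 ^ k)
  have h7 : ∀ (m : ℕ), ∀ f ∈ Fn b, f ∘ (MulAut.conjNormal ((c ^ 2 ^ k) ^ m) : MulAut S) = f := fun m => by
    rw [← pow_mul]
    exact k2 _
  generalize c ^ 2 ^ k = w at hk h5 h6 h7
  let C0 : Cv S Y := ⟨MonoidHom.id Y, S.subtype, fun _ => rfl, by rwa [Subgroup.range_subtype]⟩
  have hg := C0.res_gen w
  obtain ⟨C, hC⟩ : ∃ C, C = C0.res (C0.s.range ⊔ Subgroup.zpowers w) le_sup_left := ⟨_, rfl⟩
  have hπ : ∀ x, C.π x = x := fun x => by rw [hC]; rfl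
  rw [← hC] at hg
  have := C.normal
  have hI := C.mem_In R.le R.zero
  obtain ⟨ξ, x1, x2, x3⟩ := cover_fix (C.root R)
    ((Subgroup.card_map_of_injective C.inj).trans (card_sub R.le h4)) (C.cyc hg)
    (fun h => hk (h.trans ((C.index_dvd hg).trans (Subgroup.orderOf_coe _).symm.dvd)))
    (C.sup_top hg ((C.mem_Ce R.le _).2 (by rwa [hπ]))) (C.ce_le hg R (by rwa [hπ]) (by rwa [hπ])) (by
      rintro g _ ⟨_, ⟨ψ, hψ, rfl⟩, rfl⟩
      obtain ⟨n, m, rfl⟩ := hg g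
      funext x
      obtain ⟨y, rfl⟩ := C.e.surjective x
      rw [Function.comp_apply, show MulAut.conjNormal _ (C.e y) = C.e _ from Subtype.ext (C.cj _ y),
        H649.irrMap_apply', H649.irrMap_apply', ← congrFun (h7 m _ (mem_Fn.2 hψ)) y, Function.comp_apply,
        ← irr_conj ψ.2 (MulAut.conjNormal (w ^ m) y) n]
      refine congrArg _ (Subtype.ext ?_)
      show C.π (C.s n * _ ^ m) * _ * (C.π (C.s n * _ ^ m))⁻¹ = (n : Y) * (w ^ m * y * (w ^ m)⁻¹) * (n : Y)⁻¹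
      rw [map_mul, map_pow, C.sec, hπ]
      group)
  refine ext_fix R.can (card_sub R.le h4) ((Reg.mem_In_iff R.le R.zero w).1 h5) (k1 w h6) (e := fun n => ξ (C.s n))
    ⟨ce_le_In R.can, ?_, fun a ha => ?_⟩ (E.extS R) fun a ha => ?_
  · refine Core.isIrr_comp ((C.s.comp (Subgroup.subtype _)).codRestrict (C.s.range ⊓ In (C.Qs Q) (C.th θ))
      fun a : In (Q.subgroupOf S) fun n : S => θ n => ⟨⟨_, rfl⟩, (hI _).2 ?_⟩) ?_ x1
    · rw [MonoidHom.comp_apply, C.sec]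
      exact (inS R a).2.2
    · rintro ⟨_, ⟨n, rfl⟩, hn⟩
      exact ⟨(inS R).symm ⟨n, n.2, C.sec n ▸ (hI _).1 hn⟩, rfl⟩
  · rw [x2 _ ((C.mem_Ce R.le _).2 (by rw [C.sec]; exact (mem_Ce_sub R.le).1 ha)) ⟨a, rfl⟩, C.th_mem ⟨a, rfl⟩, C.sec]
  · rw [← x3 _ ((C.mem_Ce R.le ⟨w, Subgroup.mem_sup_right (Subgroup.mem_zpowers w)⟩).2 (by rwa [hπ])) (C.s a)
      ⟨⟨a, rfl⟩, (hI _).2 (by rw [C.sec]; exact (inS R ⟨a, ha⟩).2.2)⟩, C.cj]
    exact congrArg (fun n => ξ (C.s n)) (Subtype.ext (by simp [hπ]))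

/-- the kernel of the action -/
def Kr (S Q : Subgroup Y) (θ e : Y → ℂ) (h : Y) : Prop :=
  ∃ t ∈ S, ∃ c ∈ In Q θ, c ∈ Ce Q ∧ h = t * c ∧ ∀ i ∈ S ⊓ In Q θ, e (c * i * c⁻¹) = e i

omit R [Finite Y] in
theorem fix_XG (x : Y) : (∀ f ∈ XG S b, f ∘ MulAut.conj x = f) ↔
    ∀ f ∈ Fn b, f ∘ (MulAut.conjNormal x : MulAut S) = f := by
  refine ⟨fun h f hf => ?_, fun h f hf => ?_⟩
  · have h1 := congrArg (fun (g : Y → ℂ) (n : S) => g n) (h _ (ext_mem hf))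
    rwa [res_cj, ext_coe] at h1
  · rw [← ext_res hf.2, ← ext_cj, h _ hf.1]

theorem kerG (h4 : Nat.card Q = 4) (hz : Zr S Q θ = ⊥) (E : Ex0 S Q θ e) {h : Y} (hh : h ∈ In Q θ) :
    (∀ f ∈ XG S b, f ∘ MulAut.conj h = f) ↔ Kr S Q θ e h := by
  have k1 : ∀ (t : S) (c : Y), ∀ f ∈ Fn b, f ∘ (MulAut.conjNormal (t * c) : MulAut S) = f ∘ MulAut.conjNormal c :=
    fun t c f hf => by
      rw [map_mul, Q8.comp_mul, show (MulAut.conjNormal (t : Y) : MulAut S) = MulAut.conj t from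
        MulEquiv.ext fun _ => rfl, Q8.comp_conj (Q8.fn_irr hf)]
  rw [fix_XG]
  constructor
  · intro hf
    obtain ⟨t, t1, t2⟩ := str1 R.can (card_sub R.le h4) (eq_bot_iff.2 fun u hu => Subtype.ext (hz.le ⟨hu.1,
      mem_Ce.2 fun d hd => congrArg Subtype.val (mem_Ce.1 hu.2 ⟨d, hd.2⟩ ((inS R).symm ⟨d, hd.2, hd.1⟩).2)⟩))
      ((Reg.mem_In_iff R.le R.zero h).1 hh) hf
    have h1 : (t⁻¹ : S) * h ∈ In Q θ := mul_mem (inv_mem (inS R ⟨t, t1⟩).2.2) hh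
    have h2 : (t⁻¹ : S) * h ∈ Ce Q := mem_Ce.2 fun d hd => by
      have h2 : h * d * h⁻¹ = t * d * (t : Y)⁻¹ := congrArg Subtype.val (t2 ⟨d, R.le hd⟩ hd)
      rw [Subgroup.coe_inv, show (t : Y)⁻¹ * h * d = (t : Y)⁻¹ * (h * d * h⁻¹) * h by group, h2]
      group
    exact ⟨t, t.2, _, h1, h2, by simp, str2 R h4 E h1 h2 fun f h3 => (k1 _ _ f h3).trans (hf f h3)⟩
  · rintro ⟨t, t1, c, c1, c2, rfl, c3⟩ f hf
    exact (k1 ⟨t, t1⟩ c f hf).trans (boxDA S 2 M b _ _ _ R.can (E.extS R) _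
      (fun u hu => Subtype.ext (mul_inv_eq_iff_eq_mul.2 (mem_Ce.1 c2 _ hu).symm)) (fun g => c1.2 g)
      (fun x hx => c3 _ (inS R ⟨x, hx⟩).2) f hf)

omit R [Finite Y] in
theorem fix_XL {c : Set (IrrCharacter (S ⊓ In Q θ : Subgroup Y))} (x : In Q θ) {f : Y → ℂ} (hf : f ∈ XG _ c) :
    f ∘ MulAut.conj (x : Y) = f ↔ (fun n : (S ⊓ In Q θ : Subgroup Y) => f n) ∘ cjI S Q θ x =
      fun n : (S ⊓ In Q θ : Subgroup Y) => f n := by
  refine ⟨fun h => funext fun n => congrFun h n, fun h => funext fun y => ?_⟩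
  by_cases hy : y ∈ S ⊓ In Q θ
  · exact congrFun h ⟨y, hy⟩
  · rw [hf.2 y hy]
    exact hf.2 _ fun h1 => hy ((Subgroup.mem_normalizer_iff.1 (le_norm_inf S _ x.2) y).2 h1)

theorem kerL (h4 : Nat.card Q = 4) (hz : Zr S Q θ = ⊥) (E : Ex0 S Q θ e) (he : e ∈ XL M S Q θ) {h : Y}
    (hh : h ∈ In Q θ) : (∀ f ∈ XL M S Q θ, f ∘ MulAut.conj h = f) ↔ Kr S Q θ e h := by
  constructor
  · intro hf
    obtain ⟨t, -, t2⟩ := str1 (locB_can R) (card_sub (le_I R) h4) (eq_bot_iff.2 fun u hu => Subtype.ext (hz.le ⟨hu.1,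
      mem_Ce.2 fun d hd => congrArg Subtype.val (mem_Ce.1 hu.2 ⟨d, hd.2, hd.1⟩ (In_loc.ge trivial))⟩))
      (cjI_mem ⟨h, hh⟩) fun f h1 => by
        have h2 := (fix_XL ⟨h, hh⟩ (ext_mem h1)).1 (hf _ (ext_mem h1))
        rwa [ext_coe] at h2
    refine ⟨t, t.2.1, (t : Y)⁻¹ * h, mul_mem (inv_mem t.2.2) hh, mem_Ce.2 fun d hd => ?_, by simp, fun i hi => ?_⟩
    · have h2 : h * d * h⁻¹ = t * d * (t : Y)⁻¹ := congrArg Subtype.val (t2 ⟨d, le_I R hd⟩ hd)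
      rw [show (t : Y)⁻¹ * h * d = (t : Y)⁻¹ * (h * d * h⁻¹) * h by group, h2]
      group
    · rw [← congrFun (hf e he) i]
      refine Eq.trans (congrArg e ?_) (irr_conj E.irr (cjI S Q θ ⟨h, hh⟩ ⟨i, hi⟩) t⁻¹)
      simp [cjI_coe, mul_assoc]
  · rintro ⟨t, t1, c, c1, c2, rfl, c3⟩ f hf
    have h1 : t ∈ In Q θ := (Subgroup.mul_mem_cancel_right _ c1).1 hh
    rw [cj_mul, (fix_XL ⟨t, h1⟩ hf).2 (funext fun n => irr_conj (Q8.fn_irr hf.1) n ⟨t, t1, h1⟩)]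
    exact (fix_XL ⟨c, c1⟩ hf).2 (boxDA _ 2 M _ _ _ _ (locB_can R) (E.extI R) _
      (fun u hu => Subtype.ext (mul_inv_eq_iff_eq_mul.2 (mem_Ce.1 c2 _ hu).symm)) (fun g => c1.2 g)
      (fun x _ => c3 _ x.2) _ hf.1)

end S1v

open Cfsg Cfsg.Agent.TO Cfsg.Agent.TO.Cov Cfsg.Agent.BH.S1 S1v

/-- **[S1]** for the prime `2` -/
theorem boxS1_two {M : Ideal AlgInt} : BoxS1 2 M := by
  intro _ Y _ _ S _ b Q θ R hT hs hz _
  have h4 : Nat.card Q = 4 := (hs.resolve_left fun h => h.1 rfl).2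
  obtain ⟨e, he, E⟩ := exists_ex0 R h4
  have c1 : (XG S b).ncard = 4 := by
    rw [← bijOn_res.injOn.ncard_image, bijOn_res.image_eq, card4 R.can (card_sub R.le h4)]
  have c2 : (XL M S Q θ).ncard = 4 := by
    rw [← bijOn_res.injOn.ncard_image, bijOn_res.image_eq, card4 (locB_can R) (card_sub (le_I R) h4)]
  obtain ⟨χ₀, a1, a2⟩ := exists_fixed R.can (card_sub R.le h4)
  obtain ⟨η₀, b1, b2⟩ := exists_fixed (locB_can R) (card_sub (le_I R) h4)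
  have a3 : ∀ x : Y, extendByZero S χ₀ ∘ MulAut.conj x = extendByZero S χ₀ := fun x => by
    rw [← ext_cj, a2 _ (stab_top R.can hT x)]
  obtain ⟨σ, hσ⟩ := eqv4 c1 c2 (inv_XG R hT _) (inv_XL R) (ext_mem a1) (ext_mem b1) (fun x _ => a3 x)
    (fun x hx => (fix_XL ⟨x, hx⟩ (ext_mem b1)).2 (by
      rw [ext_coe]
      exact b2 _ ((locB_can R).le_Stab (cjI_mem _))))
    fun x hx => (kerG R h4 hz E hx).trans (kerL R h4 hz E he hx).symm
  obtain ⟨d1, -, d2, d3⟩ := split4 c1 (ext_mem a1) (inv_XG R hT ⊤) fun x _ => a3 x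
  obtain ⟨u, ρ, u1, u2, u3⟩ := perm3 (MonoidHom.id Y) d1 fun f hf x => d2 f hf x trivial
  have hρ : ∀ x, x ∈ ρ.ker ↔ ∀ f ∈ XG S b, f ∘ MulAut.conj x = f := fun x => by
    rw [MonoidHom.mem_ker, ker3 u1 u3, u2]
    exact d3 x trivial
  refine frame R hT hσ fun χ hχ => ?_
  obtain ⟨y, hy, hc⟩ := cyc3 (In ⊤ χ) ρ
  refine Kap.hasMatch R hT E.irr E.ext hχ.1 hχ.2 (hσ.1.mapsTo hχ).1 (hσ.1.mapsTo hχ).2 (fun h h1 h2 x _ => ?_) ρ.ker
    (fun t _ x hx => ρ.normal_ker.conj_mem x hx t) (fun x hx => ?_) y hy hc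
  · exact congrFun ((hσ.2 χ hχ h h2).symm.trans (congrArg σ (funext h1.2))) x
  · obtain ⟨n, hn, h, hh, rfl⟩ := Subgroup.mem_sup_of_normal_left.1 (hT ▸ Subgroup.mem_top x : x ∈ S ⊔ In Q θ)
    have h1 : n ∈ ρ.ker := (hρ n).2 ((fix_XG n).2 fun f hf => Q8.comp_conj (Q8.fn_irr hf) ⟨n, hn⟩)
    obtain ⟨t, t1, c, c1, c2, rfl, c3⟩ := (kerG R h4 hz E hh).1 ((hρ h).1 ((Subgroup.mul_mem_cancel_left _ h1).1 hx))
    exact ⟨_, mul_mem hn t1, c, c1, c2, (mul_assoc _ _ _).symm, c3⟩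

end Cfsg.Agent.BH
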